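import Groth.Agent.Lib.Frob.RelBij
import Mathlib.RingTheory.MvPolynomial.Basic
import Mathlib.LinearAlgebra.TensorProduct.Pi
import Mathlib.LinearAlgebra.TensorProduct.Basis
import Mathlib.RingTheory.Smooth.StandardSmoothCotangent
import Mathlib.RingTheory.RingHom.StandardSmooth
import Mathlib.RingTheory.Smooth.StandardSmoothOfFree
import Mathlib.RingTheory.Etale.Kaehler
import Mathlib.RingTheory.Flat.Localization
import Mathlib.RingTheory.Localization.BaseChange

/-!
# Flatness of the relative Frobenius of a smooth algebra, with independent universes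

A copy of `GrothLib.Frob` (RelBij, RelFree, RelSmooth) with the universe of the algebra freed.
-/

namespace GrothLib.Frob16

universe u v

open TensorProduct
open GrothLib.Frob (bijective_of_etale_of_pow etale_of_comp)

section
variable (p : ℕ) [Fact p.Prime] (A : Type u) [CommRing A] [CharP A p]
  (B : Type v) [CommRing B] [Algebra A B] [CharP B p]

theorem relFrob_tmul (b : B) (a : FrobAlg.Twist p A) :
    FrobAlg.relFrob p A B (b ⊗ₜ a) = b ^ p * algebraMap A B ((FrobAlg.toTwist p A).symm a) := by
  simp [FrobAlg.relFrob, FrobAlg.frobHom, FrobAlg.inclHom, frobenius_def]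

theorem relFrob_ker {x : FrobAlg.BaseChange p A B} (hx : FrobAlg.relFrob p A B x = 0) : x ^ p = 0 := by
  have key : ∀ x : FrobAlg.BaseChange p A B,
      x ^ p = (FrobAlg.relFrob p A B x) ⊗ₜ[A] (1 : FrobAlg.Twist p A) := by
    intro x
    induction x using TensorProduct.induction_on with
    | zero => simp [zero_pow (Fact.out : p.Prime).ne_zero]
    | add x y hx hy =>
      obtain ⟨r, hr⟩ := exists_add_pow_prime_eq (Fact.out : p.Prime) x y
      rw [hr, show (p : FrobAlg.BaseChange p A B) = 0 by
          rw [← map_natCast (algebraMap A (FrobAlg.BaseChange p A B)), CharP.cast_eq_zero A p, map_zero],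
        zero_mul, zero_mul, zero_mul, add_zero, hx, hy, map_add, TensorProduct.add_tmul]
    | tmul b a =>
      have ht : a ^ p = algebraMap A (FrobAlg.Twist p A) ((FrobAlg.toTwist p A).symm a) := by
        rw [FrobAlg.algebraMap_twist, map_pow, RingEquiv.apply_symm_apply]
      rw [Algebra.TensorProduct.tmul_pow, ht, relFrob_tmul, Algebra.algebraMap_eq_smul_one, TensorProduct.tmul_smul,
        TensorProduct.smul_tmul', ← Algebra.commutes, ← Algebra.smul_def]
  rw [key x, hx, TensorProduct.zero_tmul]

/-- The relative Frobenius of an étale algebra is bijective. -/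
theorem bijective_relFrob [Algebra.Etale A B] : Function.Bijective (FrobAlg.relFrob p A B) := by
  let f : FrobAlg.Twist p A →+* FrobAlg.BaseChange p A B := algebraMap _ _
  have hf : f.Etale := by
    rw [RingHom.etale_algebraMap]
    exact Algebra.Etale.of_equiv
      { Algebra.TensorProduct.comm A (FrobAlg.Twist p A) B with
        commutes' := fun a => by
          change Algebra.TensorProduct.comm A (FrobAlg.Twist p A) B (a ⊗ₜ[A] 1) = (1 : B) ⊗ₜ[A] a
          rw [Algebra.TensorProduct.comm_tmul] }
  have hcomp : (FrobAlg.relFrob p A B).comp f =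
      (algebraMap A B).comp ((FrobAlg.toTwist p A).symm : FrobAlg.Twist p A →+* A) := RingHom.ext fun a => by
    change FrobAlg.relFrob p A B ((1 : B) ⊗ₜ[A] a) = _
    rw [relFrob_tmul, one_pow, one_mul]
    rfl
  have hg : (FrobAlg.relFrob p A B).Etale := etale_of_comp hf <| by
    rw [hcomp]
    let τ : FrobAlg.Twist p A →+* A := ((FrobAlg.toTwist p A).symm : FrobAlg.Twist p A →+* A)
    letI : Algebra (FrobAlg.Twist p A) A := τ.toAlgebra
    letI : Algebra (FrobAlg.Twist p A) B := ((algebraMap A B).comp τ).toAlgebra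
    haveI : IsScalarTower (FrobAlg.Twist p A) A B := IsScalarTower.of_algebraMap_eq fun _ => rfl
    haveI : Algebra.Etale (FrobAlg.Twist p A) A := by
      rw [← RingHom.etale_algebraMap]
      exact RingHom.Etale.of_bijective (f := τ) (FrobAlg.toTwist p A).symm.bijective
    exact Algebra.Etale.comp (FrobAlg.Twist p A) A B
  letI : Algebra (FrobAlg.BaseChange p A B) B := (FrobAlg.relFrob p A B).toAlgebra
  haveI : Algebra.Etale (FrobAlg.BaseChange p A B) B := hg
  exact bijective_of_etale_of_pow (R := FrobAlg.BaseChange p A B) (S := B) p (CharP.cast_eq_zero B p)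
    (fun s => ⟨s ⊗ₜ[A] 1, by
      change FrobAlg.relFrob p A B _ = _
      rw [relFrob_tmul, map_one, map_one, mul_one]⟩)
    (fun x hx => ⟨p, relFrob_ker p A B hx⟩)


end

section
open TensorProduct MvPolynomial

variable (p : ℕ) [hp : Fact p.Prime] {A : Type u} [CommRing A] [CharP A p]

/-- The exponent vector of a small multi-index. -/
noncomputable def expVec {r : ℕ} (e : Fin r → Fin p) : Fin r →₀ ℕ :=
  Finsupp.equivFunOnFinite.symm fun i => (e i : ℕ)

theorem expVec_apply {r : ℕ} (e : Fin r → Fin p) (i : Fin r) : expVec p e i = (e i : ℕ) := rfl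

theorem expVec_add_inj {r : ℕ} {e e' : Fin r → Fin p} {d d' : Fin r →₀ ℕ}
    (h : p • d + expVec p e = p • d' + expVec p e') : d = d' ∧ e = e' := by
  have key : ∀ i, p * d i + (e i : ℕ) = p * d' i + (e' i : ℕ) := fun i => by
    have := DFunLike.congr_fun h i
    simpa [expVec_apply] using this
  refine ⟨Finsupp.ext fun i => ?_, funext fun i => Fin.ext ?_⟩
  · have := congrArg (· / p) (key i)
    simpa [Nat.mul_add_div hp.out.pos, Nat.div_eq_of_lt (e i).2, Nat.div_eq_of_lt (e' i).2] using this
  · have := congrArg (· % p) (key i)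
    simpa [Nat.mul_add_mod, Nat.mod_eq_of_lt (e i).2, Nat.mod_eq_of_lt (e' i).2] using this

variable (r : ℕ)

local notation "P" => MvPolynomial (Fin r) A
local notation "T" => FrobAlg.Twist p A

/-- The candidate basis map for polynomial rings. -/
noncomputable def phiPoly (c : (Fin r → Fin p) → FrobAlg.BaseChange p A P) : P :=
  ∑ e, FrobAlg.relFrob p A P (c e) * monomial (expVec p e) 1

theorem relFrob_monomial (d : Fin r →₀ ℕ) (a : A) (t : T) :
    FrobAlg.relFrob p A P (monomial d a ⊗ₜ t) =
      monomial (p • d) (a ^ p * (FrobAlg.toTwist p A).symm t) := by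
  rw [relFrob_tmul, monomial_pow, MvPolynomial.algebraMap_eq, mul_comm, C_mul_monomial, mul_comm]

theorem coeff_single (y : FrobAlg.BaseChange p A P) (e e' : Fin r → Fin p) (d : Fin r →₀ ℕ) :
    coeff (p • d + expVec p e) (FrobAlg.relFrob p A P y * monomial (expVec p e') 1) =
      if e = e' then (FrobAlg.toTwist p A).symm
        (((basisMonomials (Fin r) A).baseChange T).repr (TensorProduct.comm A P T y) d) else 0 := by
  classical
  induction y using TensorProduct.induction_on with
  | zero => simp
  | add a b ha hb =>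
    rw [map_add, add_mul, coeff_add, ha, hb]
    split_ifs <;> simp
  | tmul f t =>
    induction f using MvPolynomial.induction_on' with
    | add f g hf hg =>
      rw [add_tmul, map_add, add_mul, coeff_add, hf, hg]
      split_ifs <;> simp
    | monomial m a =>
      rw [relFrob_monomial, monomial_mul, mul_one, coeff_monomial, TensorProduct.comm_tmul,
        Module.Basis.baseChange_repr_tmul]
      have hrepr : (basisMonomials (Fin r) A).repr (monomial m a) d = if m = d then a else 0 := by
        change coeff d (monomial m a) = _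
        rw [coeff_monomial]
      rw [hrepr]
      by_cases he : e = e'
      · subst he
        rw [if_pos rfl]
        by_cases hm : m = d
        · subst hm
          rw [if_pos rfl, if_pos rfl, Algebra.smul_def, map_mul, FrobAlg.algebraMap_twist,
            RingEquiv.symm_apply_apply]
        · rw [if_neg (fun h => hm (expVec_add_inj p h).1), if_neg hm, zero_smul, map_zero]
      · rw [if_neg he, if_neg (fun h => he (expVec_add_inj p h).2.symm)]

theorem coeff_phiPoly (c : (Fin r → Fin p) → FrobAlg.BaseChange p A P) (e : Fin r → Fin p) (d : Fin r →₀ ℕ) :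
    coeff (p • d + expVec p e) (phiPoly p r c) = (FrobAlg.toTwist p A).symm
        (((basisMonomials (Fin r) A).baseChange T).repr (TensorProduct.comm A P T (c e)) d) := by
  classical
  simp only [phiPoly, coeff_sum, coeff_single]
  rw [Finset.sum_ite_eq]
  simp

theorem phiPoly_add (c c' : (Fin r → Fin p) → FrobAlg.BaseChange p A P) :
    phiPoly p r (c + c') = phiPoly p r c + phiPoly p r c' := by
  simp [phiPoly, add_mul, Finset.sum_add_distrib]

theorem bijective_phiPoly : Function.Bijective (phiPoly p (A := A) r) := by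
  classical
  constructor
  · intro c c' h
    funext e
    refine (TensorProduct.comm A P T).injective
      (((basisMonomials (Fin r) A).baseChange T).repr.injective (Finsupp.ext fun d => ?_))
    apply (FrobAlg.toTwist p A).symm.injective
    rw [← coeff_phiPoly, ← coeff_phiPoly, h]
  · intro f
    induction f using MvPolynomial.induction_on' with
    | add f g hf hg =>
      obtain ⟨c, rfl⟩ := hf
      obtain ⟨c', rfl⟩ := hg
      exact ⟨c + c', phiPoly_add p r c c'⟩
    | monomial m a =>
      let e : Fin r → Fin p := fun i => ⟨m i % p, Nat.mod_lt _ hp.out.pos⟩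
      let d : Fin r →₀ ℕ := Finsupp.equivFunOnFinite.symm fun i => m i / p
      refine ⟨Pi.single e (monomial d 1 ⊗ₜ FrobAlg.toTwist p A a), ?_⟩
      rw [phiPoly, Finset.sum_eq_single e (fun b _ hb => by simp [Pi.single_eq_of_ne hb])
        (fun h => absurd (Finset.mem_univ e) h), Pi.single_eq_same, relFrob_monomial, monomial_mul, one_pow,
        one_mul, mul_one, RingEquiv.symm_apply_apply]
      refine congrArg (fun k => monomial k a) (Finsupp.ext fun i => ?_)
      rw [Finsupp.add_apply, Finsupp.smul_apply, expVec_apply, smul_eq_mul]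
      exact Nat.div_add_mod (m i) p

/-- The basis map as a `P`-linear map into the Frobenius twist. -/
noncomputable def phiPolyLin [CharP P p] :
    ((Fin r → Fin p) → FrobAlg.BaseChange p A P) →ₗ[P] FrobAlg.Twist p P where
  toFun c := FrobAlg.toTwist p P (phiPoly p r c)
  map_add' c c' := by rw [phiPoly_add, map_add]
  map_smul' f c := by
    rw [RingHom.id_apply, Algebra.smul_def (A := FrobAlg.Twist p P), FrobAlg.algebraMap_twist, ← map_mul]
    refine congrArg (FrobAlg.toTwist p P) ?_
    simp only [phiPoly, Finset.mul_sum]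
    refine Finset.sum_congr rfl fun e _ => ?_
    rw [Pi.smul_apply, Algebra.smul_def (R := P) (A := FrobAlg.BaseChange p A P), map_mul, ← mul_assoc]
    congr 2
    change FrobAlg.relFrob p A P (f ⊗ₜ 1) = _
    rw [relFrob_tmul, map_one, map_one, mul_one]

theorem exists_basis (B : Type v) [CommRing B] [Algebra A B] [CharP B p] [Algebra P B]
    [IsScalarTower A P B] [Algebra.Etale P B] :
    letI := (FrobAlg.relFrob p A B).toAlgebra
    Nonempty (Module.Basis (Fin r → Fin p) (FrobAlg.BaseChange p A B) B) := by
  classical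
  letI := (FrobAlg.relFrob p A B).toAlgebra
  let L : B ⊗[P] ((Fin r → Fin p) → FrobAlg.BaseChange p A P) ≃ₗ[P] B ⊗[P] FrobAlg.Twist p P :=
    (LinearEquiv.ofBijective (phiPolyLin p (A := A) r)
      ((FrobAlg.toTwist p P).bijective.comp (bijective_phiPoly p r))).lTensor B
  let Q := TensorProduct.piRight P P B (fun _ : Fin r → Fin p => FrobAlg.BaseChange p A P)
  let cn := TensorProduct.AlgebraTensorModule.cancelBaseChange A P P B T
  have hcn : ∀ (b : B) (y : FrobAlg.BaseChange p A P), FrobAlg.relFrob p A B (cn (b ⊗ₜ y)) =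
      b ^ p * algebraMap P B (FrobAlg.relFrob p A P y) := fun b y => by
    induction y using TensorProduct.induction_on with
    | zero => simp
    | add x y hx hy => simp only [tmul_add, map_add, hx, hy, mul_add]
    | tmul f t =>
      rw [TensorProduct.AlgebraTensorModule.cancelBaseChange_tmul, relFrob_tmul, relFrob_tmul, map_mul,
        map_pow, ← IsScalarTower.algebraMap_apply A P B, Algebra.smul_def, mul_pow]
      ring
  let v : (Fin r → Fin p) → B := fun e => algebraMap P B (monomial (expVec p e) 1)
  have key : ∀ x, FrobAlg.relFrob p P B (L x) = ∑ e, FrobAlg.relFrob p A B (cn (Q x e)) * v e := fun x => by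
    induction x using TensorProduct.induction_on with
    | zero => simp
    | add x y hx hy => simp only [map_add, Pi.add_apply, hx, hy, add_mul, Finset.sum_add_distrib]
    | tmul b c =>
      change FrobAlg.relFrob p P B (b ⊗ₜ FrobAlg.toTwist p P (phiPoly p r c)) = _
      rw [relFrob_tmul, RingEquiv.symm_apply_apply, phiPoly, map_sum, Finset.mul_sum]
      refine Finset.sum_congr rfl fun e _ => ?_
      rw [show Q (b ⊗ₜ c) e = b ⊗ₜ c e by simp [Q], hcn, map_mul, mul_assoc]
  have hLv : ⇑(Fintype.linearCombination (FrobAlg.BaseChange p A B) v) =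
      (fun x => FrobAlg.relFrob p P B (L x)) ∘ Q.symm ∘ fun c e => cn.symm (c e) := funext fun c => by
    rw [Fintype.linearCombination_apply, Function.comp_apply, Function.comp_apply, key]
    refine Finset.sum_congr rfl fun e _ => ?_
    rw [LinearEquiv.apply_symm_apply, LinearEquiv.apply_symm_apply]
    rfl
  have hbij : Function.Bijective ⇑(Fintype.linearCombination (FrobAlg.BaseChange p A B) v) := by
    rw [hLv]
    exact (((bijective_relFrob p P B).comp L.bijective).comp Q.symm.bijective).comp
      (Function.Bijective.piMap fun _ => cn.symm.bijective)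
  exact ⟨(Pi.basisFun _ _).map (LinearEquiv.ofBijective _ hbij)⟩


end

section
variable (p : ℕ) [hp : Fact p.Prime] (A : Type u) [CommRing A] [CharP A p]
  (B : Type v) [CommRing B] [Algebra A B] [CharP B p]

theorem local_data [Algebra.Smooth A B] (g : B)
    (hg : Algebra.IsStandardSmooth A (Localization.Away g)) (hn : ¬ IsNilpotent g) :
    letI := (FrobAlg.relFrob p A B).toAlgebra
    Module.Flat (FrobAlg.BaseChange p A B) (LocalizedModule.Away (g ⊗ₜ[A] (1 : FrobAlg.Twist p A)) B) := by
  classical
  letI := (FrobAlg.relFrob p A B).toAlgebra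
  let R := FrobAlg.BaseChange p A B
  let C := Localization.Away g
  haveI : Nontrivial C := by
    rw [← not_subsingleton_iff_nontrivial, IsLocalization.subsingleton_iff (S := C) (M := Submonoid.powers g)]
    rintro ⟨n, hn'⟩
    exact hn ⟨n, hn'⟩
  haveI : CharP C p := (CharP.charP_iff_prime_eq_zero hp.out).2 (by
    rw [← map_natCast (algebraMap B C), CharP.cast_eq_zero B p, map_zero])
  -- relative dimension
  obtain ⟨_, _, _, _, ⟨Pr⟩⟩ := hg.out
  haveI : Algebra.IsStandardSmoothOfRelativeDimension Pr.dimension A C := ⟨_, _, _, ‹_›, Pr, rfl⟩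
  haveI : Algebra.IsStandardSmooth A C := hg
  obtain ⟨gh, hgh⟩ := Algebra.IsStandardSmoothOfRelativeDimension.exists_etale_mvPolynomial Pr.dimension A C
  letI : Algebra (MvPolynomial (Fin Pr.dimension) A) C := gh.toRingHom.toAlgebra
  haveI : IsScalarTower A (MvPolynomial (Fin Pr.dimension) A) C :=
    IsScalarTower.of_algebraMap_eq fun a => (gh.commutes a).symm
  haveI : Algebra.Etale (MvPolynomial (Fin Pr.dimension) A) C := hgh
  obtain ⟨bas⟩ := exists_basis p (A := A) Pr.dimension C
  -- the base is a localization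
  let R' := FrobAlg.BaseChange p A C
  letI : Algebra R' C := (FrobAlg.relFrob p A C).toAlgebra
  let φ : R →ₐ[A] R' := Algebra.TensorProduct.map (IsScalarTower.toAlgHom A B C) (AlgHom.id A _)
  letI algRR' : Algebra R R' := φ.toRingHom.toAlgebra
  letI : SMul R R' := algRR'.toSMul
  letI : Module R R' := algRR'.toModule
  haveI : IsScalarTower B R R' := IsScalarTower.of_algebraMap_eq fun b => by
    change (algebraMap B C b) ⊗ₜ[A] (1 : FrobAlg.Twist p A) = φ (b ⊗ₜ[A] 1)
    rfl
  haveI hlocR : IsLocalization.Away (g ⊗ₜ[A] (1 : FrobAlg.Twist p A) : R) R' := by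
    have e : Submonoid.powers (g ⊗ₜ[A] (1 : FrobAlg.Twist p A) : R) = Algebra.algebraMapSubmonoid R (.powers g) := by
      simp [R]
    rw [IsLocalization.Away, e]
    exact IsLocalization.tensorProduct_tensorProduct A (FrobAlg.Twist p A) (.powers g) C (by
      ext x
      change (algebraMap B C (1 : B)) ⊗ₜ[A] x = (1 : C) ⊗ₜ[A] x
      rw [map_one])
  have hcomm : ∀ y : R, FrobAlg.relFrob p A C (φ y) = algebraMap B C (FrobAlg.relFrob p A B y) := fun y => by
    induction y using TensorProduct.induction_on with
    | zero => simp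
    | add a b ha hb => simp only [map_add, ha, hb]
    | tmul b t =>
      rw [show φ (b ⊗ₜ t) = algebraMap B C b ⊗ₜ t from rfl, relFrob_tmul, relFrob_tmul, map_mul, map_pow,
        ← IsScalarTower.algebraMap_apply]
  haveI : IsScalarTower R R' C := IsScalarTower.of_algebraMap_eq fun y =>
    (IsScalarTower.algebraMap_apply R B C y).trans (hcomm y).symm
  have hgp : algebraMap R B (g ⊗ₜ[A] 1) = g ^ p := by
    change FrobAlg.relFrob p A B (g ⊗ₜ 1) = _
    rw [relFrob_tmul, map_one, map_one, mul_one]
  haveI : IsLocalizedModule (Submonoid.powers (g ⊗ₜ[A] (1 : FrobAlg.Twist p A) : R))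
      (IsScalarTower.toAlgHom R B C).toLinearMap := by
    rw [isLocalizedModule_iff_isLocalization, Algebra.algebraMapSubmonoid_powers, hgp]
    refine (IsLocalization.iff_of_le_of_exists_dvd (Submonoid.powers (g ^ p)) (Submonoid.powers g)
      ?_ ?_).2 inferInstance
    · rintro _ ⟨n, rfl⟩; exact ⟨p * n, by simp [pow_mul]⟩
    · rintro _ ⟨n, rfl⟩
      exact ⟨(g ^ p) ^ n, ⟨n, rfl⟩, by
        rw [← pow_mul]; exact pow_dvd_pow g (Nat.le_mul_of_pos_left n hp.out.pos)⟩
  haveI : Module.Free R' C := Module.Free.of_basis bas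
  haveI : Module.Flat R R' := IsLocalization.flat R' (Submonoid.powers (g ⊗ₜ[A] (1 : FrobAlg.Twist p A) : R))
  haveI : Nontrivial R' := (FrobAlg.relFrob p A C).domain_nontrivial
  haveI : Module.Flat R C := Module.Flat.trans R R' C
  exact Module.Flat.of_linearEquiv
    (IsLocalizedModule.iso (Submonoid.powers (g ⊗ₜ[A] (1 : FrobAlg.Twist p A) : R))
      (IsScalarTower.toAlgHom R B C).toLinearMap)

theorem flat_relFrob [Algebra.Smooth A B] : (FrobAlg.relFrob p A B).Flat := by
  classical
  letI := (FrobAlg.relFrob p A B).toAlgebra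
  let R := FrobAlg.BaseChange p A B
  obtain ⟨s, hs, hss⟩ := Algebra.Smooth.exists_span_eq_top_isStandardSmooth A B
  have hcov : ∀ q : PrimeSpectrum R, ∃ g ∈ s, (g ⊗ₜ[A] (1 : FrobAlg.Twist p A) : R) ∉ q.asIdeal ∧ ¬ IsNilpotent g := fun q => by
    let ι : B →+* R := Algebra.TensorProduct.includeLeftRingHom
    have hne : ¬ s ⊆ (q.asIdeal.comap ι : Ideal B) := fun h => by
      have := Ideal.span_le.2 h
      rw [hs] at this
      exact (q.isPrime.comap ι).ne_top (top_le_iff.1 this)
    obtain ⟨g, hg, hgq⟩ := Set.not_subset.1 hne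
    exact ⟨g, hg, hgq, fun h => hgq ((q.isPrime.comap ι).mem_of_pow_mem _
      (h.choose_spec.symm ▸ zero_mem _ : g ^ h.choose ∈ q.asIdeal.comap ι))⟩
  let t : Set R := {x | ∃ g ∈ s, x = g ⊗ₜ[A] (1 : FrobAlg.Twist p A) ∧ ¬ IsNilpotent g}
  have ht : Ideal.span t = ⊤ := by
    by_contra h
    obtain ⟨m, hm, hle⟩ := Ideal.exists_le_maximal _ h
    obtain ⟨g, hg, hgm, hgn⟩ := hcov ⟨m, hm.isPrime⟩
    exact hgm (hle (Ideal.subset_span ⟨g, hg, rfl, hgn⟩))
  refine Module.flat_of_localized_span _ _ t ht ?_
  rintro ⟨_, g, hg, rfl, hgn⟩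
  exact local_data p A B g (hss g hg) hgn

end

end GrothLib.Frob16
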